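import Mathlib

/-!
# Endomorphisms of finite order are diagonalizable when `X^m - 1` splits with distinct roots
-/

namespace Groth.Agent.Lib.Helper24.FiniteOrderDiag

open Polynomial

theorem ker_aeval_prod {k : Type*} [Field k] {V : Type*} [AddCommGroup V] [Module k V]
    (f : Module.End k V) (s : Finset k) :
    LinearMap.ker (aeval f (∏ μ ∈ s, (X - C μ))) = ⨆ μ ∈ s, Module.End.eigenspace f μ := by
  classical
  induction s using Finset.induction_on with
  | empty =>
    simp only [Finset.prod_empty, map_one, Finset.notMem_empty, iSup_false, iSup_bot]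
    exact LinearMap.ker_id
  | insert a s ha ih =>
    rw [Finset.prod_insert ha, Finset.iSup_insert]
    have hcop : IsCoprime (X - C a) (∏ μ ∈ s, (X - C μ)) := by
      apply IsCoprime.prod_right
      intro μ hμ
      apply Polynomial.isCoprime_X_sub_C_of_isUnit_sub
      rw [isUnit_iff_ne_zero, sub_ne_zero]
      rintro rfl
      exact ha hμ
    rw [← Polynomial.sup_ker_aeval_eq_ker_aeval_mul_of_coprime f hcop, ih]
    congr 1
    rw [Module.End.eigenspace_def]
    congr 1
    simp [Algebra.algebraMap_eq_smul_one]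

theorem iSup_eigenspace_eq_top_of_pow_eq_one {k : Type*} [Field k] [IsAlgClosed k]
    {V : Type*} [AddCommGroup V] [Module k V] (f : Module.End k V) (m : ℕ) (hm : (m : k) ≠ 0)
    (hf : f ^ m = 1) : ⨆ μ : k, Module.End.eigenspace f μ = ⊤ := by
  classical
  haveI : NeZero (m : k) := ⟨hm⟩
  haveI : NeZero m := ⟨fun h => hm (by rw [h]; simp)⟩
  obtain ⟨ζ, hζ⟩ := HasEnoughRootsOfUnity.exists_primitiveRoot k m
  have h1 : (X ^ m - 1 : k[X]) = ∏ μ ∈ nthRootsFinset m (1 : k), (X - C μ) :=
    X_pow_sub_one_eq_prod (NeZero.pos m) hζ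
  have h2 : aeval f (X ^ m - 1 : k[X]) = 0 := by
    rw [map_sub, map_pow, aeval_X, map_one, hf, sub_self]
  have h3 := ker_aeval_prod f (nthRootsFinset m (1 : k))
  rw [← h1, h2, LinearMap.ker_zero] at h3
  rw [eq_top_iff, h3]
  exact iSup₂_le fun μ _ => le_iSup (fun μ => Module.End.eigenspace f μ) μ

end Groth.Agent.Lib.Helper24.FiniteOrderDiag
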