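import Mathlib.LinearAlgebra.JordanChevalley
import Mathlib.LinearAlgebra.TensorProduct.Tower
import Mathlib.RingTheory.Nilpotent.Basic

/-!
# Centralizers and Jordan decomposition under base change
-/

set_option autoImplicit false
universe u
open scoped TensorProduct

namespace Groth.Agent.Lib.Helper24.JordanCent

open Module Algebra

variable {k : Type u} [Field k] [PerfectField k]
    {V : Type u} [AddCommGroup V] [Module k V] [FiniteDimensional k V]
    {R : Type u} [CommRing R] [Algebra k R] (h : Module.End R (R ⊗[k] V))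

theorem commute_of_mem_adjoin {X Y : Module.End k V} (hY : Y ∈ Algebra.adjoin k {X})
    (hc : Commute h (X.baseChange R)) : Commute h (Y.baseChange R) := by
  have h1 : (Module.End.baseChangeHom k R V) Y ∈
      Algebra.adjoin k {(Module.End.baseChangeHom k R V) X} := by
    rw [← AlgHom.map_adjoin_singleton]
    exact ⟨Y, hY, rfl⟩
  exact Algebra.commute_of_mem_adjoin_singleton_of_commute h1 hc

theorem mem_adjoin_of_decomp {X Y N : Module.End k V} (hY : Y.IsSemisimple) (hN : IsNilpotent N)
    (hYN : Commute Y N) (hX : X = Y + N) :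
    Y ∈ Algebra.adjoin k {X} ∧ N ∈ Algebra.adjoin k {X} := by
  obtain ⟨n₀, hn₀, s₀, hs₀, hn₀nil, hs₀ss, h₀⟩ := X.exists_isNilpotent_isSemisimple
  have hc₀ : Commute n₀ s₀ := by
    have h1 : Commute n₀ X := (Algebra.commute_of_mem_adjoin_self hn₀).symm
    exact Algebra.commute_of_mem_adjoin_singleton_of_commute hs₀ h1
  have huniq := Module.End.isNilpotent_isSemisimple_unique hN hY hn₀nil hs₀ss hYN.symm hc₀
    (by rw [← h₀, hX, add_comm])
  rw [huniq.1, huniq.2]
  exact ⟨hs₀, hn₀⟩

theorem additive (X Y N : Module.End k V) (hY : Y.IsSemisimple) (hN : IsNilpotent N)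
    (hYN : Commute Y N) (hX : X = Y + N) :
    Commute h (X.baseChange R) ↔ Commute h (Y.baseChange R) ∧ Commute h (N.baseChange R) := by
  obtain ⟨hYmem, hNmem⟩ := mem_adjoin_of_decomp hY hN hYN hX
  constructor
  · intro hc
    exact ⟨commute_of_mem_adjoin h hYmem hc, commute_of_mem_adjoin h hNmem hc⟩
  · rintro ⟨h1, h2⟩
    rw [hX, LinearMap.baseChange_add]
    exact h1.add_right h2

theorem multiplicative (g t u : Module.End k V) (hg : IsUnit g) (ht : t.IsSemisimple)
    (hu : IsNilpotent (u - 1)) (htu : Commute t u) (hgtu : g = t * u) :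
    Commute h (g.baseChange R) ↔ Commute h (t.baseChange R) ∧ Commute h (u.baseChange R) := by
  constructor
  · intro hc
    have hN : IsNilpotent (t * (u - 1)) :=
      (htu.sub_right (Commute.one_right t)).isNilpotent_mul_left hu
    have hcomm : Commute t (t * (u - 1)) :=
      (Commute.refl t).mul_right (htu.sub_right (Commute.one_right t))
    have hdecomp : g = t + t * (u - 1) := by rw [hgtu, mul_sub, mul_one]; abel
    obtain ⟨htmem, -⟩ := mem_adjoin_of_decomp ht hN hcomm hdecomp
    have hct : Commute h (t.baseChange R) := commute_of_mem_adjoin h htmem hc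
    refine ⟨hct, ?_⟩
    -- `u = t⁻¹ g`
    have huunit : IsUnit u := by
      have := hu.isUnit_add_one
      rwa [sub_add_cancel] at this
    obtain ⟨uU, huU⟩ := huunit
    obtain ⟨gU, hgU⟩ := hg
    have htunit : IsUnit t := by
      have h1 : t = ↑(gU * uU⁻¹) := by
        rw [Units.val_mul, hgU, hgtu, ← huU, mul_assoc, Units.mul_inv, mul_one]
      rw [h1]; exact Units.isUnit _
    obtain ⟨tU, htU⟩ := htunit
    have hu_eq : u = ↑tU⁻¹ * g := by
      rw [hgtu, ← htU, ← mul_assoc, Units.inv_mul, one_mul]
    let β := Module.End.baseChangeHom k R V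
    have hβ : ∀ f : Module.End k V, f.baseChange R = β f := fun f => rfl
    let βU : (Module.End R (R ⊗[k] V))ˣ :=
      Units.map (β : Module.End k V →* Module.End R (R ⊗[k] V)) tU
    have hβU : (βU : Module.End R (R ⊗[k] V)) = t.baseChange R := by
      rw [hβ, ← htU]; rfl
    have hβUinv : ((βU⁻¹ : (Module.End R (R ⊗[k] V))ˣ) : Module.End R (R ⊗[k] V)) =
        β ((tU⁻¹ : (Module.End k V)ˣ) : Module.End k V) := by
      rw [← map_inv]; rfl
    have h2 : u.baseChange R =
        ((βU⁻¹ : (Module.End R (R ⊗[k] V))ˣ) : Module.End R (R ⊗[k] V)) * g.baseChange R := by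
      rw [hβUinv, hβ, hβ, ← map_mul, ← hu_eq]
    rw [h2]
    apply Commute.mul_right _ hc
    apply Commute.units_inv_right
    rw [hβU]
    exact hct
  · rintro ⟨h1, h2⟩
    rw [hgtu, LinearMap.baseChange_mul]
    exact h1.mul_right h2

theorem main :
    (∀ (g t u : Module.End k V), IsUnit g → t.IsSemisimple → IsNilpotent (u - 1) → Commute t u →
      g = t * u →
      (Commute h (g.baseChange R) ↔ Commute h (t.baseChange R) ∧ Commute h (u.baseChange R))) ∧
    (∀ (X Y N : Module.End k V), Y.IsSemisimple → IsNilpotent N → Commute Y N → X = Y + N →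
      (Commute h (X.baseChange R) ↔ Commute h (Y.baseChange R) ∧ Commute h (N.baseChange R))) :=
  ⟨fun g t u hg ht hu htu hgtu => multiplicative h g t u hg ht hu htu hgtu,
   fun X Y N hY hN hYN hX => additive h X Y N hY hN hYN hX⟩

end Groth.Agent.Lib.Helper24.JordanCent
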